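import Cfsg.Agent.Lib.Invol.BaerSuzuki
import Cfsg.Agent.Lib.Coprime.Action
import Cfsg.Agent.Lib.Fgs.ClassSize
import Cfsg.Agent.Lib.Core.MinNormal

/-!
Lifting inverted elements over `O₂`, and groups in which all centralizers of non-central elements
are maximal (S4262, given the odd order theorem).
-/

set_option autoImplicit false

namespace CfsgLib.Solv

open Subgroup Cfsg
open scoped commutatorElement

universe u

theorem commutator_le_centralizer_of_zpowers_normal {G : Type u} [Group G] (x : G)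
    [hn : (zpowers x).Normal] : commutator G ≤ centralizer ({x} : Set G) := by
  rw [commutator_def, commutator_le]
  intro g _ h _
  obtain ⟨a, ha⟩ := mem_zpowers_iff.1 (hn.conj_mem x (mem_zpowers x) g⁻¹)
  obtain ⟨b, hb⟩ := mem_zpowers_iff.1 (hn.conj_mem x (mem_zpowers x) h⁻¹)
  rw [inv_inv] at ha hb
  have e1 : ∀ k : ℤ, g⁻¹ * x ^ k * g = x ^ (a * k) := fun k => by
    have := @conj_zpow G _ k g⁻¹ x
    rw [inv_inv] at this
    rw [zpow_mul, ha, this]
  have e2 : ∀ k : ℤ, h⁻¹ * x ^ k * h = x ^ (b * k) := fun k => by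
    have := @conj_zpow G _ k h⁻¹ x
    rw [inv_inv] at this
    rw [zpow_mul, hb, this]
  have e3 : (g * h)⁻¹ * x * (g * h) = (h * g)⁻¹ * x * (h * g) := by
    calc (g * h)⁻¹ * x * (g * h) = h⁻¹ * (g⁻¹ * x * g) * h := by group
      _ = x ^ (b * a) := by rw [← ha, e2]
      _ = g⁻¹ * (h⁻¹ * x * h) * g := by rw [← hb, e1, mul_comm]
      _ = _ := by group
  rw [mem_centralizer_singleton_iff, commutatorElement_def]
  calc g * h * g⁻¹ * h⁻¹ * x = (g * h) * ((h * g)⁻¹ * x * (h * g)) * (h * g)⁻¹ := by group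
    _ = (g * h) * ((g * h)⁻¹ * x * (g * h)) * (h * g)⁻¹ := by rw [e3]
    _ = _ := by group

/-- If `H / O₂(H)` has even order, some element of `H` inverts a nontrivial element of odd order. -/
theorem exists_inverted_of_even_index_pCore {H : Type u} [Group H] [Finite H]
    (h : 2 ∣ (pCore 2 H).index) :
    ∃ t x : H, x ≠ 1 ∧ Odd (orderOf x) ∧ t * x * t⁻¹ = x⁻¹ := by
  haveI := Core.pCore_characteristic 2 H
  obtain ⟨s, hs⟩ := exists_prime_orderOf_dvd_card' (G := H ⧸ pCore 2 H) 2 h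
  have hs1 : s ∉ pCore 2 (H ⧸ pCore 2 H) := by
    rw [Core.pCore_quotient_pCore, mem_bot]
    rintro rfl
    simp at hs
  obtain ⟨-, y, -, hy1, hyo, hy⟩ := Invol.exists_inverted_of_not_mem_pCore
    (by rw [← pow_two]; exact orderOf_dvd_iff_pow_eq_one.1 (dvd_of_eq hs)) hs1
  obtain ⟨z, rfl⟩ := QuotientGroup.mk_surjective y
  obtain ⟨a, x, -, -, hax, hc, ⟨k, hk⟩, hx⟩ := Fgs.exists_p_part 2 z
  have hxo : Odd (orderOf x) := Nat.odd_iff.2 (Nat.two_dvd_ne_zero.1 hx)
  have ha1 : (a : H ⧸ pCore 2 H) = 1 := by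
    have h1 : orderOf (a : H ⧸ pCore 2 H) ∣ 2 ^ k :=
      hk ▸ orderOf_map_dvd (QuotientGroup.mk' (pCore 2 H)) a
    have h2 : orderOf (x : H ⧸ pCore 2 H) ∣ orderOf x :=
      orderOf_map_dvd (QuotientGroup.mk' (pCore 2 H)) x
    have hz : (a : H ⧸ pCore 2 H) = (z : H ⧸ pCore 2 H) * (x : H ⧸ pCore 2 H)⁻¹ := by
      rw [← hax]; simp
    have hcomm : Commute (z : H ⧸ pCore 2 H) (x : H ⧸ pCore 2 H)⁻¹ := by
      apply Commute.inv_right
      rw [← hax]
      exact ((hc.mul_left (Commute.refl x)).map (QuotientGroup.mk' (pCore 2 H)))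
    have h3 : orderOf (a : H ⧸ pCore 2 H) ∣ orderOf (z : H ⧸ pCore 2 H) * orderOf x := by
      rw [hz]
      refine hcomm.orderOf_mul_dvd_mul_orderOf.trans (mul_dvd_mul_left _ ?_)
      rwa [orderOf_inv]
    have h4 : (orderOf (z : H ⧸ pCore 2 H) * orderOf x).Coprime (2 ^ k) :=
      (Nat.coprime_two_right.2 (hyo.mul hxo)).pow_right k
    exact orderOf_eq_one_iff.1 (Nat.eq_one_of_dvd_coprimes h4 h3 h1)
  have hzx : (z : H ⧸ pCore 2 H) = (x : H ⧸ pCore 2 H) := by
    rw [← hax, QuotientGroup.mk_mul, ha1, one_mul]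
  rw [hzx] at hy hy1
  obtain ⟨j, hj⟩ := IsPGroup.iff_card.1 (Core.isPGroup_pCore 2 H)
  have hcop : (Nat.card (zpowers x)).Coprime (Nat.card (pCore 2 H)) := by
    rw [Nat.card_zpowers, hj]
    exact (Nat.coprime_two_right.2 hxo).pow_right j
  have hsn : s ∈ normalizer ((zpowers x).map (QuotientGroup.mk' (pCore 2 H)) :
      Set (H ⧸ pCore 2 H)) := by
    rw [MonoidHom.map_zpowers]
    refine mem_normalizer_fintype fun w hw => ?_
    obtain ⟨m, rfl⟩ := mem_zpowers_iff.1 hw
    rw [← conj_zpow]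
    refine zpow_mem ?_ m
    change s * (x : H ⧸ pCore 2 H) * s⁻¹ ∈ _
    rw [hy]
    exact inv_mem (mem_zpowers _)
  rw [← Coprime.map_normalizer_quotient _ hcop (Or.inl (Coprime.isSolvable_zpowers x))] at hsn
  obtain ⟨t, ht, rfl⟩ := hsn
  refine ⟨t, x, fun h1 => hy1 (by rw [h1]; rfl), hxo, ?_⟩
  have h1 : t * x * t⁻¹ * x ∈ zpowers x ⊓ pCore 2 H := by
    refine ⟨mul_mem ((mem_normalizer_iff.1 ht x).1 (mem_zpowers x)) (mem_zpowers x), ?_⟩
    refine (QuotientGroup.eq_one_iff _).1 ?_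
    simp only [QuotientGroup.mk_mul, QuotientGroup.mk_inv]
    simp only [QuotientGroup.mk'_apply] at hy
    rw [hy, inv_mul_cancel]
  rw [Core.inf_eq_bot_of_coprime_card hcop, mem_bot] at h1
  exact eq_inv_of_mul_eq_one_left h1

/-- S4262, given the odd order theorem. -/
theorem s4262 {G : Type u} [Group G] [Finite G]
    (hFT : ∀ (X : Type u) [Group X] [Finite X], Odd (Nat.card X) → Group.IsSolvable X)
    (h : ∀ g : G, g ∉ Subgroup.center G → IsCoatom (Subgroup.centralizer ({g} : Set G))) :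
    Group.IsSolvable G := by
  by_cases h2 : 2 ∣ (pCore 2 (commutator G)).index
  · exfalso
    obtain ⟨t, x, hx1, hxo, ht⟩ := exists_inverted_of_even_index_pCore h2
    have ht' : (t : G) * x * (t : G)⁻¹ = (x : G)⁻¹ := congrArg Subtype.val ht
    have hnc : (t : G) ∉ centralizer ({(x : G)} : Set G) := by
      intro hc
      rw [mem_centralizer_singleton_iff] at hc
      rw [hc, mul_inv_cancel_right] at ht'
      have h3 : x ^ 2 = 1 := by
        rw [pow_two]
        exact Subtype.ext (mul_eq_one_iff_eq_inv.2 ht')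
      exact hx1 (orderOf_eq_one_iff.1 (Nat.eq_one_of_dvd_coprimes
        (Nat.coprime_two_right.2 hxo) dvd_rfl (orderOf_dvd_of_pow_eq_one h3)))
    have hmax := h x fun hc => hnc (Fgs.cent_eq_top_iff.2 hc ▸ mem_top _)
    have hle : centralizer ({(x : G)} : Set G) ≤ normalizer (zpowers (x : G) : Set G) := by
      refine le_trans ?_ (centralizer_le_normalizer _)
      intro g hg w hw
      obtain ⟨m, rfl⟩ := mem_zpowers_iff.1 hw
      exact ((Fgs.mem_cent_iff.1 hg).zpow_left m).eq
    have htn : (t : G) ∈ normalizer (zpowers (x : G) : Set G) := by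
      refine mem_normalizer_fintype fun w hw => ?_
      obtain ⟨m, rfl⟩ := mem_zpowers_iff.1 hw
      rw [← conj_zpow, ht']
      exact zpow_mem (inv_mem (mem_zpowers _)) m
    have htop := hmax.2 _ (lt_of_le_of_ne hle fun hc => hnc (hc ▸ htn))
    haveI := normalizer_eq_top_iff.1 htop
    exact hnc (commutator_le_centralizer_of_zpowers_normal (x : G) t.2)
  · haveI := Core.pCore_characteristic 2 (commutator G)
    haveI := hFT (commutator G ⧸ pCore 2 (commutator G))
      (Nat.odd_iff.2 (Nat.two_dvd_ne_zero.1 h2))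
    haveI := Coprime.isSolvable_of_isPGroup (Core.isPGroup_pCore 2 (commutator G))
    haveI : Group.IsSolvable (commutator G) := Group.isSolvable_of_ker_le_range
      (pCore 2 (commutator G)).subtype (QuotientGroup.mk' (pCore 2 (commutator G))) (by simp)
    haveI : Group.IsSolvable (Abelianization G) := inferInstance
    exact Group.isSolvable_of_ker_le_range (commutator G).subtype Abelianization.of (by simp)

end CfsgLib.Solv
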