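import Cfsg.Agent.Lib.Solv.AutQuot
import Cfsg.Agent.Lib.LAE.Cores
import Cfsg.Agent.Lib.Invol.BaerSuzuki
import Cfsg.Agent.Lib.Transfer.NormalComplement
import Cfsg.Agent.Lib.Core.Commutator
import Cfsg.Agent.Lib.Core.Frattini

/-!
Pushing up for a Sylow `2`-subgroup `S` of class at most `2`: a minimal overgroup of `S` produces an
`A₄`-block (`exists_block`); blocks cannot exist if `N(X) ≤ S` for all nontrivial normal subgroups
`X` of `S` invariant under an automorphism group of odd order (`no_block`).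
-/

set_option autoImplicit false

namespace CfsgLib.Solv

open Subgroup Cfsg CfsgLib.Coprime
open scoped commutatorElement

universe u v

/-- Data of an `A₄`-block `⟨a, z⟩⟨x⟩` over the `2`-group `S`. -/
structure Block {G : Type u} [Group G] (S : Subgroup G) (a z x : G) : Prop where
  aS : a ∈ S
  zS : z ∈ S
  aa : a * a = 1
  zz : z * z = 1
  cen : ∀ s ∈ S, Commute s z
  act : ∀ s ∈ S, s * a * s⁻¹ = a ∨ s * a * s⁻¹ = a * z
  sq : ∀ q ∈ S, Commute q a → q * q ≠ z
  cm : ∀ q ∈ S, ∀ r ∈ S, Commute q a → Commute r a → q * r * q⁻¹ ≠ r * z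
  xS : x ∉ S
  xact : ∀ q ∈ S, Commute q a → x * q * x⁻¹ * q⁻¹ ∈ closure ({a, z} : Set G)

theorem invol_unique {K : Type u} [Group K] [Finite K] (T : Sylow 2 K)
    (hmax : IsCoatom (T : Subgroup K)) (hab : ∀ s ∈ T, ∀ t ∈ T, Commute s t)
    (h0 : pCore 2 K = ⊥) {s t : K} (hs : s ∈ T) (ht : t ∈ T) (hs1 : s ≠ 1) (ht1 : t ≠ 1)
    (hss : s * s = 1) (htt : t * t = 1) : s = t := by
  have hC : ∀ u ∈ T, u ≠ 1 → centralizer ({u} : Set K) = T := by
    intro u hu hu1
    have hle : (T : Subgroup K) ≤ centralizer ({u} : Set K) := fun y hy =>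
      mem_centralizer_singleton_iff.2 (hab y hy u hu)
    by_contra hne
    have htop := hmax.2 _ (lt_of_le_of_ne hle (Ne.symm hne))
    haveI : (zpowers u).Normal := Core.normal_of_le_center
      (zpowers_le.2 (centralizer_eq_top_iff_subset.1 htop rfl))
    have := Core.le_pCore (T.isPGroup'.to_le (zpowers_le.2 hu))
    rw [h0, le_bot_iff, zpowers_eq_bot] at this
    exact hu1 this
  have hN : normalizer ((T : Subgroup K) : Set K) = T := by
    by_contra hne
    have htop := hmax.2 _ (lt_of_le_of_ne le_normalizer (Ne.symm hne))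
    haveI := normalizer_eq_top_iff.1 htop
    have := Core.le_pCore T.isPGroup' hs
    rw [h0, mem_bot] at this
    exact hs1 this
  have hnpc : HasNormalPComplement 2 K := Transfer.burnside_normal_complement T (by
    rw [hN]; intro y hy w hw; exact hab w hw y hy)
  haveI := Transfer.pResidual_normal 2 K
  have hd : pResidual 2 K ⊓ T = ⊥ := (Transfer.hasNormalPComplement_iff_inf_eq_bot T).1 hnpc
  have hinv : ∀ u ∈ T, u ≠ 1 → u * u = 1 → ∀ r ∈ pResidual 2 K, u * r * u⁻¹ = r⁻¹ := by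
    intro u hu hu1 huu r hr
    have hf : MonoidHom.FixedPointFree (MulAut.conjNormal (H := pResidual 2 K) u) := by
      intro g hg
      have h1 : u * g * u⁻¹ = g := congrArg Subtype.val hg
      have h2 : (g : K) ∈ pResidual 2 K ⊓ T := ⟨g.2, by
        rw [← hC u hu hu1]
        exact mem_centralizer_singleton_iff.2 (mul_inv_eq_iff_eq_mul.1 h1).symm⟩
      rw [hd, mem_bot] at h2
      exact Subtype.ext h2
    have := hf.coe_eq_inv_of_involutive (fun g => Subtype.ext (by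
      change u * (u * g * u⁻¹) * u⁻¹ = g
      calc u * (u * g * u⁻¹) * u⁻¹ = (u * u) * g * (u * u)⁻¹ := by group
        _ = g := by rw [huu]; simp))
    exact congrArg Subtype.val (congrFun this ⟨r, hr⟩)
  by_contra hne
  have hst : s * t ≠ 1 := fun h => hne (by
    rw [eq_inv_of_mul_eq_one_left h, ← eq_inv_of_mul_eq_one_left htt])
  have hle : pResidual 2 K ≤ T := by
    rw [← hC _ (mul_mem hs ht) hst]
    intro r hr
    rw [mem_centralizer_singleton_iff, eq_comm, ← mul_inv_eq_iff_eq_mul]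
    calc s * t * r * (s * t)⁻¹ = s * (t * r * t⁻¹) * s⁻¹ := by group
      _ = r := by rw [hinv t ht ht1 htt r hr, hinv s hs hs1 hss _ (inv_mem hr), inv_inv]
  have := Transfer.pResidual_sup_sylow T
  rw [sup_eq_right.2 hle] at this
  exact hmax.1 this

theorem inv_mul_mem_of_card_le {G : Type u} [Group G] [Finite G] {V B : Subgroup G}
    (h : Nat.card V ≤ 2 * Nat.card (B ⊓ V : Subgroup G)) {v w : G} (hv : v ∈ V) (hw : w ∈ V)
    (hvB : v ∉ B) (hwB : w ∉ B) : v⁻¹ * w ∈ B := by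
  have h1 := Core.card_inf_mul_relIndex B V
  have hpos : 0 < Nat.card (B ⊓ V : Subgroup G) := Nat.card_pos
  have h2 : B.relIndex V ≤ 2 := by
    by_contra hc
    nlinarith
  have h3 : B.relIndex V ≠ 1 := fun hc => hvB (relIndex_eq_one.1 hc hv)
  have h4 : B.relIndex V ≠ 0 := index_ne_zero_of_finite
  have h5 : (B.subgroupOf V).index = 2 := by
    change B.relIndex V = 2
    omega
  have := (mul_mem_iff_of_index_two h5 (a := (⟨v, hv⟩ : V)⁻¹) (b := ⟨w, hw⟩)).2
    (by rw [inv_mem_iff]; exact iff_of_false hvB hwB)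
  exact this

/-- The structure of a minimal overgroup of a class `2` Sylow subgroup: index `2` over `O₂`. -/
theorem block_prelim {H : Type u} [Group H] [Finite H] (S : Sylow 2 H)
    (hmax : IsCoatom (S : Subgroup H))
    (hcl : ∀ s ∈ S, ∀ t ∈ S, ∀ r ∈ S, Commute r ⁅s, t⁆)
    (hZ : ∀ z ∈ S, (∀ s ∈ S, Commute s z) → z ∈ pCore 2 H)
    (hΩ : ¬ (LAE.omegaZ 2 (S : Subgroup H)).Normal) :
    centralizer (LAE.omegaZ 2 (pCore 2 H) : Set H) ≤ pCore 2 H ∧
      ∀ s ∈ S, ∀ t ∈ S, s ∉ pCore 2 H → t ∉ pCore 2 H → s⁻¹ * t ∈ pCore 2 H := by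
  set Q := pCore 2 H with hQ
  set V := LAE.omegaZ 2 Q with hV
  haveI hQn : Q.Normal := inferInstanceAs (pCore 2 H).Normal
  have hQS : Q ≤ S := Core.pCore_le_sylow S
  haveI hVn : V.Normal := normalizer_eq_top_iff.1 (top_le_iff.1
    (LAE.le_normalizer_omegaZ_of_le le_normalizer_of_normal))
  have hCV : centralizer (V : Set H) ≤ Q := by
    have h1 : LAE.omegaZ 2 (S : Subgroup H) ≤ V := fun w hw => by
      obtain ⟨a, b, c⟩ := LAE.mem_omegaZ.1 hw
      exact LAE.mem_omegaZ.2 ⟨hZ w a b, fun y hy => b y (hQS hy), c⟩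
    have h2 : normalizer (LAE.omegaZ 2 (S : Subgroup H) : Set H) = S := by
      by_contra hne
      exact hΩ (normalizer_eq_top_iff.1 (hmax.2 _ (lt_of_le_of_ne
        (LAE.le_normalizer_omegaZ_of_le le_normalizer) (Ne.symm hne))))
    exact Core.le_pCore (S.isPGroup'.to_le
      ((LAE.centralizer_anti h1).trans ((centralizer_le_normalizer _).trans h2.le)))
  refine ⟨hCV, fun s hs t ht hsQ htQ => ?_⟩
  have hsq : ∀ s ∈ S, s * s ∈ Q := fun s hs => hCV fun v hv => by
    have hvS : v ∈ S := hQS (LAE.omegaZ_le _ hv)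
    have hc : ⁅s, v⁆ ∈ V := mul_mem (hVn.conj_mem v hv s) (inv_mem hv)
    have hc2 : ⁅s, v⁆ * ⁅s, v⁆ = 1 := by rw [← pow_two]; exact (LAE.mem_omegaZ.1 hc).2.2
    have e1 : s * v * s⁻¹ = ⁅s, v⁆ * v := by rw [commutatorElement_def]; group
    have e2 := (hcl s hs v hvS s hs).eq
    rw [eq_comm, ← mul_inv_eq_iff_eq_mul]
    calc s * s * v * (s * s)⁻¹ = s * (s * v * s⁻¹) * s⁻¹ := by group
      _ = (s * ⁅s, v⁆) * v * s⁻¹ := by rw [e1]; group
      _ = ⁅s, v⁆ * (s * v * s⁻¹) := by rw [e2]; group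
      _ = v := by rw [e1, ← mul_assoc, hc2, one_mul]
  have hsurj := QuotientGroup.mk'_surjective Q
  let T : Sylow 2 (H ⧸ Q) := S.mapSurjective hsurj
  have hT : ∀ s ∈ S, (s : H ⧸ Q) ∈ T := fun s hs => ⟨s, hs, rfl⟩
  rw [← QuotientGroup.eq]
  refine invol_unique T (Core.isCoatom_map_of_ker_le hsurj hmax (by simpa using hQS)) ?_
    (Core.pCore_quotient_pCore 2 H) (hT s hs) (hT t ht)
    (fun h => hsQ ((QuotientGroup.eq_one_iff _).1 h))
    (fun h => htQ ((QuotientGroup.eq_one_iff _).1 h))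
    ((QuotientGroup.eq_one_iff _).2 (hsq s hs)) ((QuotientGroup.eq_one_iff _).2 (hsq t ht))
  rintro _ ⟨a, ha, rfl⟩ _ ⟨b, hb, rfl⟩
  rw [← commutatorElement_eq_one_iff_commute, ← map_commutatorElement]
  exact (QuotientGroup.eq_one_iff _).2 (hZ _ (commutator_le_right_of_mem ha hb) (hcl a ha b hb))
where
  commutator_le_right_of_mem {a b : H} (ha : a ∈ S) (hb : b ∈ S) : ⁅a, b⁆ ∈ S :=
    mul_mem (mul_mem (mul_mem ha hb) (inv_mem ha)) (inv_mem hb)

theorem exists_block {H : Type u} [Group H] [Finite H] (S : Sylow 2 H)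
    (hmax : IsCoatom (S : Subgroup H))
    (hcl : ∀ s ∈ S, ∀ t ∈ S, ∀ r ∈ S, Commute r ⁅s, t⁆)
    (hZ : ∀ z ∈ S, (∀ s ∈ S, Commute s z) → z ∈ pCore 2 H)
    (hΩ : ¬ (LAE.omegaZ 2 (S : Subgroup H)).Normal)
    (hJ : ¬ (thompsonSubgroupOf 2 (S : Subgroup H)).Normal) :
    ∃ a z x : H, Block (S : Subgroup H) a z x := by
  obtain ⟨hCV, hidx⟩ := block_prelim S hmax hcl hZ hΩ
  set Q := pCore 2 H with hQ
  set V := LAE.omegaZ 2 Q with hV
  haveI hQn : Q.Normal := inferInstanceAs (pCore 2 H).Normal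
  have hQS : Q ≤ S := Core.pCore_le_sylow S
  haveI hVn : V.Normal := normalizer_eq_top_iff.1 (top_le_iff.1
    (LAE.le_normalizer_omegaZ_of_le le_normalizer_of_normal))
  have hVQ : V ≤ Q := LAE.omegaZ_le _
  have hVc : ∀ v ∈ V, ∀ q ∈ Q, q * v = v * q := fun v hv => (LAE.mem_omegaZ.1 hv).2.1
  have hV2 : ∀ v ∈ V, v * v = 1 := fun v hv => by
    rw [← pow_two]; exact (LAE.mem_omegaZ.1 hv).2.2
  -- an offender
  obtain ⟨E, hE, e, heE, heQ⟩ : ∃ E ∈ PLocal.maxElemIn 2 (S : Subgroup H), ∃ e ∈ E, e ∉ Q := by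
    by_contra hc
    push Not at hc
    apply hJ
    rw [← PLocal.thompsonSubgroupOf_eq_of_le hQS (PLocal.thompsonSubgroupOf_le_iff.2 hc)]
    exact PLocal.thompsonSubgroupOf_normal Q
  have heS : e ∈ S := hE.1 heE
  have hee : e * e = 1 := by rw [← pow_two]; exact hE.2.1.2 e heE
  haveI := hE.2.1.1
  have hEc : ∀ f ∈ E, f * e = e * f := fun f hf => mul_comm_of_mem_isMulCommutative E hf heE
  have hcard : Nat.card V ≤ 2 * Nat.card ((E ⊓ Q) ⊓ V : Subgroup H) := by
    have h1 : Q.relIndex E = 2 := relIindex_eq_two_iff'.2 ⟨e⁻¹, inv_mem heE, fun b hb => by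
      by_cases hbQ : b ∈ Q
      · exact Or.inr ⟨hbQ, fun h => heQ (inv_mem_iff.1 ((mul_mem_cancel_right hbQ).1 h))⟩
      · exact Or.inl ⟨hidx e heS b (hE.1 hb) heQ hbQ, hbQ⟩⟩
    have h2 := Core.card_inf_mul_relIndex Q E
    rw [h1, inf_comm] at h2
    have h3 := Core.card_sup_mul_card_inf_of_normal (E ⊓ Q) V
    have h4 : Nat.card ((E ⊓ Q) ⊔ V : Subgroup H) ≤ Nat.card E := hE.2.2 _
      (sup_le (inf_le_left.trans hE.1) (hVQ.trans hQS))
      (Core.isElementaryAbelian_sup (Core.isElementaryAbelian_of_le hE.2.1 inf_le_left)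
        (LAE.elemAb_omegaZ Q) (inf_le_right.trans (LAE.le_centralizer_omegaZ Q)))
    have hpos : 0 < Nat.card (E ⊓ Q : Subgroup H) := Nat.card_pos
    have h5 : Nat.card (E ⊓ Q : Subgroup H) * Nat.card V ≤
        Nat.card (E ⊓ Q : Subgroup H) * (2 * Nat.card ((E ⊓ Q) ⊓ V : Subgroup H)) := by
      rw [← h3]
      calc _ ≤ Nat.card E * Nat.card ((E ⊓ Q) ⊓ V : Subgroup H) := Nat.mul_le_mul_right _ h4
        _ = _ := by rw [← h2]; ring
    exact Nat.le_of_mul_le_mul_left h5 hpos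
  obtain ⟨z, hzV, hzc, hz⟩ : ∃ z ∈ V, (∀ s ∈ S, Commute s z) ∧
      ∀ v ∈ V, e * v * e⁻¹ = v ∨ e * v * e⁻¹ = v * z := by
    by_cases hc : ∃ v ∈ V, e * v * e⁻¹ ≠ v
    · obtain ⟨v, hv, hev⟩ := hc
      have hn : ∀ w, e * w * e⁻¹ ≠ w → w ∉ E ⊓ Q := fun w hw h =>
        hw (by rw [← hEc w h.1, mul_inv_cancel_right])
      have hzV : ⁅e, v⁆ ∈ V := mul_mem (hVn.conj_mem v hv e) (inv_mem hv)
      refine ⟨⁅e, v⁆, hzV, hcl e heS v (hQS (hVQ hv)), fun w hw => ?_⟩
      by_cases hw' : e * w * e⁻¹ = w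
      · exact Or.inl hw'
      right
      have h1 := hEc _ (inv_mul_mem_of_card_le hcard hv hw (hn v hev) (hn w hw')).1
      calc e * w * e⁻¹ = e * v * e⁻¹ * (e * (v⁻¹ * w)) * e⁻¹ := by group
        _ = ⁅e, v⁆ * w := by rw [← h1, commutatorElement_def]; group
        _ = _ := (hVc _ hzV w (hVQ hw)).symm
    · push Not at hc
      exact ⟨1, one_mem _, fun s _ => Commute.one_right s, fun v hv => Or.inl (hc v hv)⟩
  obtain ⟨-, x, -, hx1, hxo, hex⟩ := Invol.exists_inverted_of_not_mem_pCore hee heQ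
  obtain ⟨k, hk⟩ := hxo
  set y := x ^ (k + 1) with hy
  have hyy : y * y = x := by
    rw [hy, ← pow_add, show k + 1 + (k + 1) = (2 * k + 1) + 1 by ring, ← hk, pow_succ,
      pow_orderOf_eq_one, one_mul]
  have hey : e * y * e⁻¹ = y⁻¹ := by rw [hy, ← conj_pow, hex, inv_pow]
  have hei : e⁻¹ = e := inv_eq_of_mul_eq_one_left hee
  have hxe : x = (y * e * y⁻¹) * e := by
    calc x = y * y := hyy.symm
      _ = y * (e * y * e⁻¹)⁻¹ := by rw [hey, inv_inv]
      _ = y * e * y⁻¹ * e⁻¹ := by group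
      _ = _ := by rw [hei]
  set a := y * z * y⁻¹ with ha
  have haV : a ∈ V := hVn.conj_mem z hzV y
  set U := closure ({a, z} : Set H) with hU
  have haU : a ∈ U := subset_closure (by simp)
  have hzU : z ∈ U := subset_closure (by simp)
  have hUV : U ≤ V := (closure_le _).2 (by
    rintro w (rfl | rfl)
    exacts [haV, hzV])
  have hmul : ∀ (A B : Subgroup H) [A.Normal] (g h : H), (∀ v ∈ A, g * v * g⁻¹ * v⁻¹ ∈ B) →
      (∀ v ∈ A, h * v * h⁻¹ * v⁻¹ ∈ B) → ∀ v ∈ A, g * h * v * (g * h)⁻¹ * v⁻¹ ∈ B := by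
    intro A B hA g h h1 h2 v hv
    have := mul_mem (h1 _ (hA.conj_mem v hv h)) (h2 v hv)
    convert this using 1
    group
  have hxV : ∀ v ∈ V, x * v * x⁻¹ * v⁻¹ ∈ U := by
    rw [hxe]
    refine hmul V U _ _ (fun v hv => ?_) fun v hv => ?_
    · have hv' : y⁻¹ * v * y ∈ V := by simpa using hVn.conj_mem v hv y⁻¹
      have e1 : y * e * y⁻¹ * v * (y * e * y⁻¹)⁻¹ = y * (e * (y⁻¹ * v * y) * e⁻¹) * y⁻¹ := by group
      rw [e1]
      rcases hz _ hv' with h | h
      · rw [h]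
        convert one_mem U using 1
        group
      · rw [h]
        convert haU using 1
        calc y * (y⁻¹ * v * y * z) * y⁻¹ * v⁻¹ = (v * a) * v⁻¹ := by rw [ha]; group
          _ = a := by rw [hVc a haV v (hVQ hv), mul_inv_cancel_right]
    · rcases hz v hv with h | h
      · rw [h, mul_inv_cancel]; exact one_mem _
      · rw [h, hVc z hzV v (hVQ hv), mul_inv_cancel_right]; exact hzU
  have heQV : ∀ q ∈ Q, e * q * e⁻¹ * q⁻¹ ∈ V := fun q hq => by
    have hc := hcl e heS q (hQS hq)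
    refine LAE.mem_omegaZ.2 ⟨mul_mem (hQn.conj_mem q hq e) (inv_mem hq),
      fun w hw => (hc w (hQS hw)).eq, ?_⟩
    have e1 : e * q * e⁻¹ = ⁅e, q⁆ * q := by rw [commutatorElement_def]; group
    have e2 : q = ⁅e, q⁆ * ⁅e, q⁆ * q := by
      calc q = (e * e) * q * (e * e)⁻¹ := by rw [hee]; simp
        _ = e * (e * q * e⁻¹) * e⁻¹ := by group
        _ = (e * ⁅e, q⁆) * q * e⁻¹ := by rw [e1]; group
        _ = ⁅e, q⁆ * (e * q * e⁻¹) := by rw [(hc e heS).eq]; group
        _ = _ := by rw [e1, mul_assoc]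
    rw [pow_two]
    exact (right_eq_mul.1 e2)
  have hxQ : ∀ q ∈ Q, x * q * x⁻¹ * q⁻¹ ∈ V := by
    rw [hxe]
    refine hmul Q V _ _ (fun q hq => ?_) heQV
    have hq' : y⁻¹ * q * y ∈ Q := by simpa using hQn.conj_mem q hq y⁻¹
    convert hVn.conj_mem _ (heQV _ hq') y using 1
    group
  have hflip : ∀ c : H, ⁅c, x⁆ = (x * c * x⁻¹ * c⁻¹)⁻¹ := fun c => by
    rw [commutatorElement_def]; group
  have hxo' : (Nat.card (zpowers x)).Coprime (Nat.card Q) := by
    obtain ⟨j, hj⟩ := IsPGroup.iff_card.1 (Core.isPGroup_pCore 2 H)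
    rw [Nat.card_zpowers, hQ, hj]
    exact (Nat.coprime_two_right.2 ⟨k, hk⟩).pow_right j
  have hQU : ⁅Q, zpowers x⁆ ≤ U := by
    rw [← commutator_eq_of_commutator_le hVQ (Core.commutator_zpowers_right_le
      (le_normalizer_of_normal (mem_top x)) fun c hc => hflip c ▸ inv_mem (hxQ c hc))
      (coprime_of_le hxo' le_rfl hVQ)]
    refine Core.commutator_zpowers_right_le (mem_normalizer_fintype fun u hu => ?_)
      fun c hc => hflip c ▸ inv_mem (hxV c hc)
    simpa using mul_mem (hxV u (hUV hu)) hu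
  have hxS : x ∉ S := fun h => by
    obtain ⟨j, hj⟩ := S.isPGroup' ⟨x, h⟩
    exact hx1 (orderOf_eq_one_iff.1 (Nat.eq_one_of_dvd_coprimes
      ((Nat.coprime_two_right.2 ⟨k, hk⟩).pow_right j) dvd_rfl
      (orderOf_dvd_of_pow_eq_one (congrArg Subtype.val hj))))
  have hxz : ¬ Commute x z := fun hc => by
    have haz : a = z := by rw [ha, (hc.pow_left (k + 1)).eq, mul_inv_cancel_right]
    have h1 : U ≤ centralizer (zpowers x : Set H) := (closure_le _).2 (by
      rw [haz]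
      rintro w (rfl | rfl) <;>
      · rintro _ ⟨m, rfl⟩
        exact (hc.zpow_left m).eq)
    have h2 := le_centralizer_of_commutator_le_centralizer le_normalizer_of_normal hxo'
      (hQU.trans h1) (mem_zpowers x)
    exact hxS (hQS (hCV (LAE.centralizer_anti hVQ h2)))
  have hea : ¬ Commute e a := fun hc => hxz (by
    have h1 : y⁻¹ * z * y = y * z * y⁻¹ := by
      calc y⁻¹ * z * y = (e * y * e⁻¹) * (e * z * e⁻¹) * (e * y * e⁻¹)⁻¹ := by
            rw [hey, (hzc e heS).eq, mul_inv_cancel_right, inv_inv]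
        _ = e * a * e⁻¹ := by rw [ha]; group
        _ = _ := by rw [hc.eq, mul_inv_cancel_right]
    rw [← hyy]
    change y * y * z = z * (y * y)
    calc y * y * z = y * (y * z * y⁻¹) * y := by group
      _ = _ := by rw [← h1]; group)
  have hCa : ∀ q ∈ S, Commute q a → q ∈ Q := fun q hq hc => by
    by_contra hn
    have h1 := hVc a haV _ (hidx e heS q hq heQ hn)
    apply hea
    have h2 : Commute (e⁻¹ * q) a := h1
    have := (h2.mul_left hc.inv_left).inv_left
    simpa using this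
  have hxq : ∀ q ∈ Q, ∃ u ∈ V, x * q * x⁻¹ = u * q := fun q hq =>
    ⟨_, hxQ q hq, by group⟩
  refine ⟨a, z, x, hQS (hVQ haV), hQS (hVQ hzV), hV2 a haV, hV2 z hzV, hzc, fun s hs => ?_,
    fun q hq hc h => hxz ?_, fun q hq r hr hqa hra h => hxz ?_, hxS, fun q hq hc => ?_⟩
  · by_cases hsQ : s ∈ Q
    · left; rw [hVc a haV s hsQ, mul_inv_cancel_right]
    · have h1 := hVc a haV _ (hidx e heS s hs heQ hsQ)
      have : s * a * s⁻¹ = e * a * e⁻¹ := by
        calc s * a * s⁻¹ = e * (e⁻¹ * s * a) * s⁻¹ := by group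
          _ = _ := by rw [h1]; group
      rw [this]
      exact hz a haV
  · obtain ⟨u, hu, e1⟩ := hxq q (hCa q hq hc)
    rw [commute_iff_eq, ← mul_inv_eq_iff_eq_mul, ← h]
    calc x * (q * q) * x⁻¹ = (x * q * x⁻¹) * (x * q * x⁻¹) := by group
      _ = u * (q * u) * q := by rw [e1]; group
      _ = (u * u) * (q * q) := by rw [hVc u hu q (hCa q hq hc)]; group
      _ = _ := by rw [hV2 u hu, one_mul]
  · obtain ⟨u, hu, e1⟩ := hxq q (hCa q hq hqa)
    obtain ⟨w, hw, e2⟩ := hxq r (hCa r hr hra)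
    have hz' : z = r⁻¹ * (q * r * q⁻¹) := by rw [h]; group
    have c1 : Commute u (q * (w * r) * q⁻¹) := (hVc u hu _ (hQn.conj_mem _
      (mul_mem (hVQ hw) (hCa r hr hra)) q)).symm
    have c2 : Commute q w := hVc w hw q (hCa q hq hqa)
    rw [commute_iff_eq, ← mul_inv_eq_iff_eq_mul]
    calc x * z * x⁻¹ = (x * r * x⁻¹)⁻¹ * ((x * q * x⁻¹) * (x * r * x⁻¹) * (x * q * x⁻¹)⁻¹) := by
          rw [hz']; group
      _ = (w * r)⁻¹ * ((u * (q * (w * r) * q⁻¹)) * u⁻¹) := by rw [e1, e2]; group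
      _ = (w * r)⁻¹ * ((q * w) * r * q⁻¹) := by rw [c1.eq]; group
      _ = z := by rw [c2.eq, hz']; group
  · have := hQU (commutator_mem_commutator (hCa q hq hc) (mem_zpowers x))
    rw [hflip] at this
    exact inv_mem_iff.1 this

theorem Block.center_eq {G : Type u} [Group G] {S : Subgroup G} {a z x b w y : G}
    (h1 : Block S a z x) (h2 : Block S b w y) (hab : ¬ Commute b a) : w = z := by
  have e1 := (h1.act b h2.aS).resolve_left fun h => hab (mul_inv_eq_iff_eq_mul.1 h)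
  have e2 := (h2.act a h1.aS).resolve_left fun h => hab (mul_inv_eq_iff_eq_mul.1 h).symm
  have e3 : b * a = a * b * z := by
    rw [mul_inv_eq_iff_eq_mul.1 e1, mul_assoc, mul_assoc, (h1.cen b h2.aS).eq]
  have e4 : a * b = b * a * w := by
    rw [mul_inv_eq_iff_eq_mul.1 e2, mul_assoc, mul_assoc, (h2.cen a h1.aS).eq]
  rw [e3, mul_assoc, left_eq_mul] at e4
  rw [eq_inv_of_mul_eq_one_right e4, inv_eq_of_mul_eq_one_left h1.zz]

theorem Block.cent_eq {G : Type u} [Group G] {S : Subgroup G} {a z x b w y c w' y' : G}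
    (h1 : Block S a z x) (h2 : Block S b w y) (h3 : Block S c w' y') (hab : ¬ Commute b a)
    (hac : ¬ Commute c a) : ∀ s ∈ S, Commute s b → Commute s c := by
  obtain rfl := h1.center_eq h2 hab
  obtain rfl := h1.center_eq h3 hac
  have hprod : ∀ s ∈ S, ∀ t ∈ S, ¬ Commute s a → ¬ Commute t a → Commute (s * t) a := by
    intro s hs t ht h h'
    have e1 := (h1.act s hs).resolve_left fun h0 => h (mul_inv_eq_iff_eq_mul.1 h0)
    have e2 := (h1.act t ht).resolve_left fun h0 => h' (mul_inv_eq_iff_eq_mul.1 h0)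
    rw [commute_iff_eq, ← mul_inv_eq_iff_eq_mul]
    calc s * t * a * (s * t)⁻¹ = s * (t * a * t⁻¹) * s⁻¹ := by group
      _ = (s * a * s⁻¹) * (s * w' * s⁻¹) := by rw [e2]; group
      _ = a := by rw [e1, (h1.cen s hs).eq, mul_inv_cancel_right, mul_assoc, h1.zz, mul_one]
  have hd := hprod b h2.aS c h3.aS hab hac
  have hbc : Commute c b := by
    by_contra hn
    have e1 := (h2.act c h3.aS).resolve_left fun h0 => hn (mul_inv_eq_iff_eq_mul.1 h0)
    apply h1.sq _ (mul_mem h2.aS h3.aS) hd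
    calc b * c * (b * c) = b * (c * b * c⁻¹) * (c * c) := by group
      _ = w' := by rw [e1, h3.aa, mul_one, ← mul_assoc, h2.aa, one_mul]
  have key : ∀ s ∈ S, Commute s b → Commute s a → Commute s c := by
    intro s hs hsb hsa
    by_contra hn
    have e1 := (h3.act s hs).resolve_left fun h0 => hn (mul_inv_eq_iff_eq_mul.1 h0)
    apply h1.cm s hs _ (mul_mem h2.aS h3.aS) hsa hd
    calc s * (b * c) * s⁻¹ = (s * b) * s⁻¹ * (s * c * s⁻¹) := by group
      _ = _ := by rw [e1, hsb.eq]; group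
  intro s hs hsb
  by_cases hsa : Commute s a
  · exact key s hs hsb hsa
  · have := key _ (mul_mem hs h2.aS) (hsb.mul_left (Commute.refl b)) (hprod s hs b h2.aS hsa hab)
    simpa using this.mul_left hbc.symm.inv_left

theorem Block.map {G : Type u} {G' : Type v} [Group G] [Group G'] {S : Subgroup G} {a z x : G}
    (h : Block S a z x) {f : G →* G'} (hf : Function.Injective f) :
    Block (S.map f) (f a) (f z) (f x) where
  aS := mem_map_of_mem f h.aS
  zS := mem_map_of_mem f h.zS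
  aa := by rw [← map_mul, h.aa, map_one]
  zz := by rw [← map_mul, h.zz, map_one]
  cen := by
    rintro _ ⟨s, hs, rfl⟩
    exact (h.cen s hs).map f
  act := by
    rintro _ ⟨s, hs, rfl⟩
    simpa only [← map_mul, ← map_inv, hf.eq_iff] using h.act s hs
  sq := by
    rintro _ ⟨s, hs, rfl⟩ hc
    simpa only [← map_mul, Ne, hf.eq_iff] using h.sq s hs (hc.of_map hf)
  cm := by
    rintro _ ⟨s, hs, rfl⟩ _ ⟨t, ht, rfl⟩ hc hc'
    simpa only [← map_mul, ← map_inv, Ne, hf.eq_iff] using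
      h.cm s hs t ht (hc.of_map hf) (hc'.of_map hf)
  xS := fun hx => h.xS ((mem_map_iff_mem hf).1 hx)
  xact := by
    rintro _ ⟨s, hs, rfl⟩ hc
    have := mem_map_of_mem f (h.xact s hs (hc.of_map hf))
    simpa only [MonoidHom.map_closure, Set.image_pair, map_mul, map_inv] using this

theorem no_block {G : Type u} {A : Type v} [Group G] [Finite G] [Group A] {φ : A →* MulAut G}
    (hA : ∀ α : A, Odd (orderOf α)) {S : Subgroup G} (hS : AutInv φ S)
    (hN : ∀ X ≤ S, X ≠ ⊥ → AutInv φ X → S ≤ normalizer (X : Set G) →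
      normalizer (X : Set G) ≤ S) {a z x : G} (h : Block S a z x) : False := by
  have hb : ∀ α : A, Block S (φ α a) (φ α z) (φ α x) := fun α => by
    have := h.map (f := (φ α).toMonoidHom) (φ α).injective
    rwa [hS.map_eq] at this
  have hcomm : ∀ α : A, Commute (φ α a) a := by
    intro α
    by_contra hn
    have hn' : ¬ Commute (φ α⁻¹ a) a := fun hc => hn (by
      have := hc.map (φ α)
      simpa using this.symm)
    have h1 := h.cent_eq (hb α⁻¹) (hb α) hn' hn
    have h2 : ∀ k : ℕ, ∀ s ∈ S, Commute s a → Commute s (φ (α ^ (2 * k)) a) := by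
      intro k
      induction k with
      | zero => intro s _ hc; simpa using hc
      | succ k ih =>
        intro s hs hc
        have c1 := (ih s hs hc).map (φ (α ^ (2 * k + 1))⁻¹)
        have e1 : φ (α ^ (2 * k + 1))⁻¹ (φ (α ^ (2 * k)) a) = φ α⁻¹ a := by
          rw [← MulAut.mul_apply, ← map_mul]; congr 2; group
        rw [e1] at c1
        have c2 := (h1 _ (hS _ s hs) c1).map (φ (α ^ (2 * k + 1)))
        have e2 : φ (α ^ (2 * k + 1)) (φ α a) = φ (α ^ (2 * (k + 1))) a := by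
          rw [← MulAut.mul_apply, ← map_mul]; congr 2; group
        rw [e2] at c2
        simpa using c2
    obtain ⟨k, hk⟩ := hA α
    have := h2 (k + 1) a h.aS (Commute.refl a)
    rw [show 2 * (k + 1) = (2 * k + 1) + 1 by ring, ← hk, pow_succ, pow_orderOf_eq_one,
      one_mul] at this
    exact hn this.symm
  let W : Subgroup G := closure {g | ∃ α : A, g = φ α a ∨ g = φ α z}
  have hg1 : ∀ α, φ α a ∈ W := fun α => subset_closure ⟨α, Or.inl rfl⟩
  have hg2 : ∀ α, φ α z ∈ W := fun α => subset_closure ⟨α, Or.inr rfl⟩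
  have hWS : W ≤ S := (closure_le _).2 (by
    rintro _ ⟨α, rfl | rfl⟩
    exacts [(hb α).aS, (hb α).zS])
  have hWa : W ≤ centralizer ({a} : Set G) := (closure_le _).2 (by
    rintro _ ⟨α, rfl | rfl⟩
    · exact mem_centralizer_singleton_iff.2 (hcomm α)
    · exact mem_centralizer_singleton_iff.2 ((hb α).cen a h.aS).symm)
  have hzW : z ∈ W := by simpa using hg2 1
  have hUW : closure ({a, z} : Set G) ≤ W := (closure_le _).2 (by
    rintro w (rfl | rfl)
    · simpa using hg1 1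
    · exact hzW)
  refine h.xS (hN W hWS (fun hb => h.sq 1 (one_mem _) (Commute.one_left a) ?_) ?_ ?_ ?_)
  · rw [hb, mem_bot] at hzW
    rw [hzW, one_mul]
  · intro β w hw
    have : W ≤ W.comap (φ β).toMonoidHom := (closure_le _).2 (by
      rintro _ ⟨α, rfl | rfl⟩
      · simpa using hg1 (β * α)
      · simpa using hg2 (β * α))
    exact this hw
  · intro s hs
    refine mem_normalizer_fintype fun w hw => ?_
    have : W ≤ W.comap (MulAut.conj s).toMonoidHom := (closure_le _).2 (by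
      rintro _ ⟨α, rfl | rfl⟩
      · change s * φ α a * s⁻¹ ∈ W
        rcases (hb α).act s hs with e | e <;> rw [e]
        exacts [hg1 α, mul_mem (hg1 α) (hg2 α)]
      · change s * φ α z * s⁻¹ ∈ W
        rw [((hb α).cen s hs).eq, mul_inv_cancel_right]
        exact hg2 α)
    exact this hw
  · refine mem_normalizer_fintype fun w hw => ?_
    simpa using mul_mem (hUW (h.xact w (hWS hw) (mem_centralizer_singleton_iff.1 (hWa hw)))) hw

end CfsgLib.Solv
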