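import Cfsg.Agent.Lib.Solv.AutQuot
import Cfsg.Agent.Lib.ZJ.FunctorApp
import Cfsg.Agent.Lib.Transfer.NormalComplement

/-!
Coprime action all of whose proper invariant subgroups are nilpotent (invariant Schmidt theorem).
-/

set_option autoImplicit false

namespace CfsgLib.Solv

open Subgroup CfsgLib.Coprime Cfsg

universe u v

theorem autInv_centerThompsonOf {G : Type u} {A : Type v} [Group G] [Group A]
    {φ : A →* MulAut G} {P : Subgroup G} (hP : AutInv φ P) (e : ℕ) :
    AutInv φ (centerThompsonOf e P) := by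
  rw [autInv_iff_map_eq]
  intro a
  rw [ZJ.map_centerThompsonOf (f := (φ a).toMonoidHom) (φ a).injective, hP.map_eq]

theorem solvable_of_inv_nilpotent_aux {A : Type v} [Group A] [Finite A] (hA : Group.IsSolvable A)
    (n : ℕ) : ∀ (G : Type u) [Group G] [Finite G] (φ : A →* MulAut G), Nat.card G = n →
      (Nat.card A).Coprime (Nat.card G) →
      (∀ H : Subgroup G, H ≠ ⊤ → AutInv φ H → Group.IsNilpotent H) → Group.IsSolvable G := by
  induction n using Nat.strong_induction_on with
  | _ n ih =>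
  intro G _ _ φ hn hcop h
  by_cases hex : ∃ N : Subgroup G, N.Normal ∧ AutInv φ N ∧ N ≠ ⊥ ∧ N ≠ ⊤
  · obtain ⟨N, hNn, hNi, h1, h2⟩ := hex
    haveI := h N h2 hNi
    haveI : Group.IsSolvable (G ⧸ N) := by
      refine ih _ (hn ▸ Core.card_quotient_lt_of_ne_bot h1) (G ⧸ N) (quotAut φ N hNi) rfl
        (coprime_quot hcop N) fun H hH hHi => ?_
      have hne : H.comap (QuotientGroup.mk' N) ≠ ⊤ := fun hc => hH (by
        rw [← map_comap_eq_self_of_surjective (QuotientGroup.mk'_surjective N) H, hc,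
          map_top_of_surjective _ (QuotientGroup.mk'_surjective N)])
      haveI := h _ hne (autInv_comap_quot hHi)
      rw [← map_comap_eq_self_of_surjective (QuotientGroup.mk'_surjective N) H]
      exact Group.nilpotent_of_surjective _ (MonoidHom.subgroupMap_surjective _ _)
    exact Group.isSolvable_of_ker_le_range N.subtype (QuotientGroup.mk' N) (by simp)
  push Not at hex
  by_cases h2 : ∀ p : ℕ, p.Prime → p ∣ Nat.card G → p = 2
  · exact isSolvable_of_isPGroup (p := 2) (IsPGroup.of_card
      (Nat.eq_prime_pow_of_unique_prime_dvd Nat.card_pos.ne' fun hp hd => h2 _ hp hd))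
  push Not at h2
  obtain ⟨p, hp, hpd, hp2⟩ := h2
  haveI := Fact.mk hp
  obtain ⟨P, hP⟩ := aut_exists_invariant_sylow (φ := φ) p hcop (Or.inl hA)
  have hP1 : (P : Subgroup G) ≠ ⊥ := P.ne_bot_of_dvd_card hpd
  have hZ := autInv_centerThompsonOf hP p
  by_cases hN : normalizer (centerThompsonOf p (P : Subgroup G) : Set G) = ⊤
  · have htop := hex _ (normalizer_eq_top_iff.1 hN) hZ
      (ZJ.centerThompsonOf_ne_bot (Or.inr rfl) P.isPGroup' hP1)
    have hPtop : (P : Subgroup G) = ⊤ := top_le_iff.1 (htop ▸ ZJ.centerThompsonOf_le _)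
    exact isSolvable_of_isPGroup ((hPtop ▸ P.isPGroup' : IsPGroup p (⊤ : Subgroup G)).of_equiv
      topEquiv)
  haveI := h _ hN (autInv_normalizer hZ)
  have hnpc : HasNormalPComplement p G :=
    ZJ.hasNormalPComplement_of_centerThompsonOf hp2 P (ZJ.isStronglyClosed_self _)
      Transfer.hasNormalPComplement_of_isNilpotent
  haveI := Transfer.pResidual_characteristic p G
  by_cases hb : pResidual p G = ⊥
  · exact isSolvable_of_isPGroup (Transfer.pResidual_eq_bot_iff.1 hb)
  have := hex _ inferInstance (autInv_of_characteristic _) hb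
  exfalso
  apply Transfer.hasNormalPComplement_iff_not_dvd.1 hnpc
  rw [this, card_top]
  exact hpd

theorem inv_schmidt {G : Type u} {A : Type v} [Group G] [Group A] [Finite G] [Finite A]
    (φ : A →* MulAut G) (hcop : (Nat.card A).Coprime (Nat.card G))
    (hs : Group.IsSolvable A ∨ Group.IsSolvable G)
    (h : ∀ H : Subgroup G, H ≠ ⊤ → AutInv φ H → Group.IsNilpotent H)
    (hG : ¬ Group.IsNilpotent G) :
    Group.IsSolvable G ∧
      (∃ p q a b : ℕ, p.Prime ∧ q.Prime ∧ p ≠ q ∧ Nat.card G = p ^ a * q ^ b) ∧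
      ∃ (p : ℕ) (P : Sylow p G), p.Prime ∧ p ∣ Nat.card G ∧ (P : Subgroup G).Normal ∧
        AutInv φ P := by
  haveI hsol : Group.IsSolvable G :=
    hs.elim (fun hA => solvable_of_inv_nilpotent_aux hA _ G φ rfl hcop h) id
  refine ⟨hsol, ?_⟩
  rcases subsingleton_or_nontrivial G with h0 | h0
  · exact absurd (inferInstance : Group.IsNilpotent G) hG
  obtain ⟨M, hMn, hq⟩ := Core.exists_normal_prime_index G
  set q := M.index with hqdef
  haveI := Fact.mk hq
  haveI := Transfer.pResidual_characteristic q G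
  have hRM : pResidual q G ≤ M := Transfer.pResidual_le_of_index (k := 1) (by rw [pow_one])
  have hR : pResidual q G ≠ ⊤ := fun hc => by
    have : M = ⊤ := top_le_iff.1 (hc ▸ hRM)
    rw [this, index_top] at hqdef
    exact hq.one_lt.ne' hqdef
  haveI := h _ hR (autInv_of_characteristic _)
  have hnorm : ∀ (p : ℕ) [Fact p.Prime], p ≠ q → ∀ P : Sylow p G, (P : Subgroup G).Normal := by
    intro p hp hpq P
    obtain ⟨k, hk⟩ := IsPGroup.iff_card.1 P.isPGroup'
    have h1 : (P : Subgroup G) ≤ pResidual q G := Transfer.le_pResidual_of_coprime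
      (hk ▸ ((Nat.coprime_primes hp.out hq).2 hpq).pow_left k)
    have h2 : (P : Subgroup G) ≤ pCore p G := Core.le_pCore_of_le_fittingSubgroup
      (h1.trans (Core.le_fittingSubgroup inferInstance)) P.isPGroup'
    rw [le_antisymm h2 (Core.pCore_le_sylow P)]
    infer_instance
  obtain ⟨Q, hQ⟩ := aut_exists_invariant_sylow (φ := φ) q hcop hs
  have hQn : normalizer ((Q : Subgroup G) : Set G) ≠ ⊤ := fun hc => hG <|
    Core.isNilpotent_of_forall_exists_sylow_normal fun p _ => by
      by_cases hpq : p = q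
      · subst hpq
        exact ⟨Q, normalizer_eq_top_iff.1 hc⟩
      · exact ⟨default, hnorm p hpq _⟩
  have : ∃ (p : ℕ) (P : Sylow p G), p.Prime ∧ p ≠ q ∧
      ¬ (P : Subgroup G) ≤ normalizer ((Q : Subgroup G) : Set G) := by
    by_contra hc
    push Not at hc
    refine hQn (eq_of_forall_sylow_le le_top fun p hp _ => ?_)
    haveI := Fact.mk hp
    by_cases hpq : p = q
    · subst hpq
      exact ⟨Q, le_normalizer, by rw [relIndex_top_right]; exact Q.not_dvd_index⟩
    · let P : Sylow p G := default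
      exact ⟨P, hc p P hp hpq, by rw [relIndex_top_right]; exact P.not_dvd_index⟩
  obtain ⟨p, P, hp, hpq, hPN⟩ := this
  haveI := Fact.mk hp
  haveI := hnorm p hpq P
  have hPi : AutInv φ P := autInv_of_sylow_normal P
  obtain ⟨a, ha⟩ := IsPGroup.iff_card.1 P.isPGroup'
  obtain ⟨b, hb⟩ := IsPGroup.iff_card.1 Q.isPGroup'
  have hc : (Nat.card (P : Subgroup G)).Coprime (Nat.card (Q : Subgroup G)) := by
    rw [ha, hb]
    exact Nat.coprime_pow_primes _ _ hp hq hpq
  have htop : (Q : Subgroup G) ⊔ P = ⊤ := by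
    by_contra hne
    haveI := h _ hne (hQ.sup hPi)
    exact hPN ((Core.le_centralizer_of_coprime_of_le_isNilpotent le_sup_right le_sup_left hc).trans
      (centralizer_le_normalizer _))
  have hcard := Core.card_sup_mul_card_inf_of_normal (Q : Subgroup G) (P : Subgroup G)
  rw [htop, Core.inf_eq_bot_of_coprime_card hc.symm, card_bot, mul_one, card_top, ha, hb]
    at hcard
  refine ⟨⟨p, q, a, b, hp, hq, hpq, by rw [hcard, mul_comm]⟩, p, P, hp, ?_, inferInstance, hPi⟩
  exact (Core.dvd_card_of_isPGroup_of_ne_bot P.isPGroup' fun hb => hPN (hb ▸ bot_le)).trans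
    (card_subgroup_dvd_card _)

/-- One of two groups of coprime orders is solvable, given the odd order theorem. -/
theorem solvable_or_of_coprime {G : Type u} {A : Type v} [Group G] [Group A]
    (hA : Odd (Nat.card A) → Group.IsSolvable A) (hG : Odd (Nat.card G) → Group.IsSolvable G)
    (hcop : (Nat.card A).Coprime (Nat.card G)) : Group.IsSolvable A ∨ Group.IsSolvable G := by
  rcases Nat.even_or_odd (Nat.card A) with h | h
  · right
    apply hG
    rw [← Nat.not_even_iff_odd]
    intro h2
    have := Nat.dvd_gcd h.two_dvd h2.two_dvd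
    rw [hcop] at this
    exact absurd this (by norm_num)
  · exact Or.inl (hA h)

/-- S4240 given the dichotomy of the odd order theorem. -/
theorem s4240 {A G : Type*} [Group A] [Group G] [Finite A] [Finite G] [MulDistribMulAction A G]
    (hcop : (Nat.card A).Coprime (Nat.card G)) (hs : Group.IsSolvable A ∨ Group.IsSolvable G)
    (hmax : ∀ H : Subgroup G, H ≠ ⊤ → (∀ a : A, ∀ x ∈ H, a • x ∈ H) →
      (∀ K : Subgroup G, H < K → (∀ a : A, ∀ x ∈ K, a • x ∈ K) → K = ⊤) → Group.IsNilpotent H)
    (hG : ¬ Group.IsNilpotent G) :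
    Group.IsSolvable G ∧
      (∃ p q a b : ℕ, p.Prime ∧ q.Prime ∧ p ≠ q ∧ Nat.card G = p ^ a * q ^ b) ∧
      ∃ (p : ℕ) (P : Sylow p G), p.Prime ∧ p ∣ Nat.card G ∧ (P : Subgroup G).Normal ∧
        (∀ a : A, ∀ x ∈ (P : Subgroup G), a • x ∈ (P : Subgroup G)) := by
  refine inv_schmidt (MulDistribMulAction.toMulAut A G) hcop hs (fun H hH hHi => ?_) hG
  obtain ⟨M, hHM, hM, hMi, hmx⟩ := exists_maximal_autInv hHi hH
  haveI := hmax M hM hMi hmx
  exact Group.nilpotent_of_mulEquiv (subgroupOfEquivOfLe hHM)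

end CfsgLib.Solv
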