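import Cfsg.Agent.Lib.Solv.ClassTwoBlock
import Cfsg.Agent.Lib.Solv.InvNilp
import Cfsg.Agent.Lib.Transfer.Frobenius
import Cfsg.Agent.Lib.Fgs.ClassSize

/-!
The invariant Janko–Deskins theorem: a solvable group `A` acting coprimely on `G` with a nilpotent
maximal `A`-invariant subgroup whose Sylow `2`-subgroup has class at most `2` forces `G` solvable.
-/

set_option autoImplicit false

namespace CfsgLib.Solv

open Subgroup Cfsg CfsgLib.Coprime
open scoped commutatorElement

universe u v

theorem npc_two {G : Type u} {A : Type v} [Group G] [Finite G] [Group A] {φ : A →* MulAut G}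
    (hA : ∀ α : A, Odd (orderOf α)) (S : Sylow 2 G) (hS : AutInv φ S)
    (hcl : ∀ s ∈ S, ∀ t ∈ S, ∀ r ∈ S, Commute r ⁅s, t⁆)
    (hN : ∀ X ≤ (S : Subgroup G), X ≠ ⊥ → AutInv φ X → (S : Subgroup G) ≤ normalizer (X : Set G) →
      normalizer (X : Set G) ≤ S) : HasNormalPComplement 2 G := by
  by_cases hS1 : (S : Subgroup G) = ⊥
  · exact Transfer.frobenius_of_forall_centralizer S fun Q hQ hQ1 =>
      absurd (le_bot_iff.1 (hS1 ▸ hQ)) hQ1
  by_cases hc : ∀ g : G, (S : Subgroup G) ⊓ centralizer (S : Set G) ≤ Tech.cj g S → g ∈ S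
  · refine Transfer.frobenius_of_forall_centralizer' S fun Q hQ _ hsyl g hg hgo => ?_
    have hNC := LAE.normalizer_le_normalizer_centralizer Q
    have hT := hsyl.inf_of_le_normalizer hNC
    obtain ⟨n, hn, hgn⟩ := hT.frattini' (g := g)
      (LAE.le_normalizer_inf le_normalizer hNC hg)
    have hgnS : g * n ∈ S := by
      apply hc
      refine le_trans ?_ (Tech.cj_mono (g * n) (inf_le_left.trans inf_le_left :
        (S : Subgroup G) ⊓ normalizer (Q : Set G) ⊓ centralizer (Q : Set G) ≤ S))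
      rw [Tech.mem_normalizer_iff_cj.1 hgn]
      have := inf_le_right.trans (LAE.centralizer_anti hQ) (a := (S : Subgroup G) ⊓ _)
      exact le_inf (le_inf inf_le_left (this.trans (centralizer_le_normalizer _))) this
    have hpow : ∀ m : ℕ, (g ^ m)⁻¹ * (g * n) ^ m ∈ centralizer (Q : Set G) := by
      intro m
      induction m with
      | zero => simp
      | succ m ih =>
        have := mul_mem (Tech.conj_mem_of_mem_normalizer' (hNC hg) ih) hn.2
        convert this using 1
        rw [pow_succ, pow_succ]; group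
    obtain ⟨k, hk⟩ := S.isPGroup' ⟨_, hgnS⟩
    have hk' : (g * n) ^ 2 ^ k = 1 := congrArg Subtype.val hk
    have := hpow (2 ^ k)
    rw [hk', mul_one, inv_mem_iff] at this
    exact LAE.mem_of_pow_mem_of_coprime (hgo.pow_right k) this
  exfalso
  push Not at hc
  obtain ⟨g, hZ, hg⟩ := hc
  set D := (S : Subgroup G) ⊓ Tech.cj g S with hD
  have hlt : D < Tech.cj g S := lt_of_le_of_ne inf_le_right fun h =>
    hg (hN S le_rfl hS1 hS le_normalizer (Tech.mem_normalizer_of_cj_le (h ▸ inf_le_left)))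
  obtain ⟨t, ht, htD, htN⟩ := Tech.exists_mem_normalizer_of_lt (Tech.isPGroup_cj g S.isPGroup') hlt
  have hZD : ∀ z ∈ S, (∀ s ∈ S, Commute s z) → z ∈ D := fun z hz h => ⟨hz, hZ ⟨hz, h⟩⟩
  have hSD : (S : Subgroup G) ≤ normalizer (D : Set G) := fun s hs =>
    mem_normalizer_fintype fun d hd => by
      have := mul_mem (hZD ⁅s, d⁆ (mul_mem (mul_mem (mul_mem hs hd.1) (inv_mem hs)) (inv_mem hd.1))
        (hcl s hs d hd.1)) hd
      simpa [commutatorElement_def] using this
  obtain ⟨H, ⟨hSH, hHD⟩, hmin⟩ := (wellFounded_lt (α := Subgroup G)).has_min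
    {H | (S : Subgroup G) < H ∧ H ≤ normalizer (D : Set G)}
    ⟨_, lt_of_le_of_ne hSD fun h => htD ⟨h ▸ htN, ht⟩, le_rfl⟩
  have hmap : ((S : Subgroup G).subgroupOf H).map H.subtype = S := map_subgroupOf_eq_of_le hSH.le
  have hnot : ∀ X : Subgroup H, X.map H.subtype ≤ S → X.map H.subtype ≠ ⊥ →
      AutInv φ (X.map H.subtype) → ¬ X.Normal := fun X h1 h2 h3 h4 =>
    hSH.not_ge ((LAE.le_normalizer_map_subtype X).trans (hN _ h1 h2 h3
      (hSH.le.trans (LAE.le_normalizer_map_subtype X))))
  suffices hex : ∃ a z x : H, Block (S.subtype hSH.le : Subgroup H) a z x by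
    obtain ⟨a, z, x, hb⟩ := hex
    have := hb.map H.subtype_injective
    rw [Sylow.coe_subtype, hmap] at this
    exact no_block hA hS hN this
  refine exists_block (S.subtype hSH.le) ?_ ?_ ?_ ?_ ?_
  · rw [Sylow.coe_subtype]
    refine ⟨fun h => hSH.not_ge (subgroupOf_eq_top.1 h), fun K hK => ?_⟩
    have h1 : (S : Subgroup G) < K.map H.subtype := by
      rw [← hmap]
      exact lt_of_le_of_ne (map_mono hK.le) fun h => hK.ne (map_injective H.subtype_injective h)
    have h2 : K.map H.subtype = H := by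
      by_contra hne
      exact hmin _ ⟨h1, (map_subtype_le K).trans hHD⟩ (lt_of_le_of_ne (map_subtype_le K) hne)
    exact map_injective H.subtype_injective (by rw [h2, ← MonoidHom.range_eq_map, range_subtype])
  · intro s hs t ht r hr
    exact Subtype.ext (hcl s hs t ht r hr).eq
  · intro z hz h
    have := LAE.normal_subgroupOf_of_le hHD
    refine Core.le_pCore (N := D.subgroupOf H)
      ((S.isPGroup'.to_le inf_le_left).comap_subtype) (hZD z hz fun s hs => ?_)
    exact congrArg Subtype.val (h ⟨s, hSH.le hs⟩ hs).eq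
  · rw [Sylow.coe_subtype]
    apply hnot <;> rw [LAE.map_omegaZ H.subtype_injective, hmap]
    · exact LAE.omegaZ_le _
    · exact LAE.omegaZ_ne_bot S.isPGroup' hS1
    · exact autInv_iff_map_eq.2 fun α => by
        rw [LAE.map_omegaZ (f := (φ α).toMonoidHom) (φ α).injective, hS.map_eq]
  · rw [Sylow.coe_subtype]
    apply hnot <;> rw [PLocal.map_thompsonSubgroupOf H.subtype_injective, hmap]
    · exact PLocal.thompsonSubgroupOf_le _
    · exact PLocal.thompsonSubgroupOf_ne_bot (Core.dvd_card_of_isPGroup_of_ne_bot S.isPGroup' hS1)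
    · exact autInv_iff_map_eq.2 fun α => by
        rw [PLocal.map_thompsonSubgroupOf (f := (φ α).toMonoidHom) (φ α).injective, hS.map_eq]

/-- The `2`-elements of `M` generate a group of class at most `2`. -/
def Cls2 {G : Type u} [Group G] (M : Subgroup G) : Prop :=
  ∀ s ∈ M, ∀ t ∈ M, ∀ r ∈ M, (∃ k, orderOf s = 2 ^ k) → (∃ k, orderOf t = 2 ^ k) →
    (∃ k, orderOf r = 2 ^ k) → Commute r ⁅s, t⁆

theorem exists_p_lift {G : Type u} {G' : Type v} [Group G] [Finite G] [Group G'] (f : G →* G')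
    {p : ℕ} [hp : Fact p.Prime] {M : Subgroup G} {y : G'} (hy : y ∈ M.map f)
    (h : ∃ k, orderOf y = p ^ k) : ∃ x ∈ M, (∃ k, orderOf x = p ^ k) ∧ f x = y := by
  obtain ⟨m, hm, rfl⟩ := hy
  obtain ⟨k, hk⟩ := h
  obtain ⟨a, b, ha, hb, hab, -, hao, hbo⟩ := Fgs.exists_p_part p m
  refine ⟨a, zpowers_le.2 hm ha, hao, ?_⟩
  have h1 : orderOf (f b) ∣ p ^ k := by
    rw [← hk]
    apply orderOf_dvd_of_mem_zpowers
    rw [← MonoidHom.map_zpowers]
    exact mem_map_of_mem f hb
  have h2 : f b = 1 := orderOf_eq_one_iff.1 (Nat.eq_one_of_dvd_coprimes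
    (((Nat.Prime.coprime_iff_not_dvd hp.out).2 hbo).symm.pow_right k) (orderOf_map_dvd f b) h1)
  rw [← hab, map_mul, h2, mul_one]

theorem Cls2.map {G : Type u} {G' : Type v} [Group G] [Finite G] [Group G'] {M : Subgroup G}
    (h : Cls2 M) (f : G →* G') : Cls2 (M.map f) := by
  intro s hs t ht r hr h1 h2 h3
  obtain ⟨s', hs', h1', rfl⟩ := exists_p_lift f hs h1
  obtain ⟨t', ht', h2', rfl⟩ := exists_p_lift f ht h2
  obtain ⟨r', hr', h3', rfl⟩ := exists_p_lift f hr h3
  rw [← map_commutatorElement]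
  exact (h s' hs' t' ht' r' hr' h1' h2' h3').map f

theorem Cls2.subgroupOf {G : Type u} [Group G] {M : Subgroup G} (h : Cls2 M) (K : Subgroup G) :
    Cls2 (M.subgroupOf K) := by
  intro s hs t ht r hr h1 h2 h3
  rw [← Subgroup.orderOf_coe] at h1 h2 h3
  exact Subtype.ext (h s hs t ht r hr h1 h2 h3).eq

theorem inv_deskins_aux (n : ℕ) : ∀ (G A : Type u) [Group G] [Finite G] [Group A] [Finite A]
    (φ : A →* MulAut G) (M : Subgroup G), Nat.card G = n → Group.IsSolvable A →
    (Nat.card A).Coprime (Nat.card G) → M ≠ ⊤ → AutInv φ M →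
    (∀ H : Subgroup G, M ≤ H → H ≠ ⊤ → AutInv φ H → H = M) → Group.IsNilpotent M → Cls2 M →
    Group.IsSolvable G := by
  induction n using Nat.strong_induction_on with
  | _ n ih =>
  intro G A _ _ _ _ φ M hn hA hcop hM hMi hmax hnil hcl
  by_cases hex : ∃ N : Subgroup G, N.Normal ∧ AutInv φ N ∧ N ≠ ⊥ ∧ N ≤ M
  · obtain ⟨N, hNn, hNi, h1, h2⟩ := hex
    have hsurj := QuotientGroup.mk'_surjective N
    have hcm : (M.map (QuotientGroup.mk' N)).comap (QuotientGroup.mk' N) = M :=
      comap_map_eq_self (by simpa using h2)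
    have : Group.IsNilpotent N := Group.nilpotent_of_mulEquiv (subgroupOfEquivOfLe h2)
    have : Group.IsSolvable N := IsNilpotent.to_isSolvable
    have : Group.IsSolvable (G ⧸ N) := by
      refine ih _ (hn ▸ Core.card_quotient_lt_of_ne_bot h1) (G ⧸ N) A (quotAut φ N hNi)
        (M.map (QuotientGroup.mk' N)) rfl hA (coprime_quot hcop N)
        (fun h => hM (by rw [← hcm, h, comap_top])) (autInv_map_quot hNi hMi)
        (fun H h3 h4 h5 => ?_)
        (Group.nilpotent_of_surjective _ (MonoidHom.subgroupMap_surjective _ _)) (hcl.map _)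
      have h6 : H.comap (QuotientGroup.mk' N) = M := by
        refine hmax _ (map_le_iff_le_comap.1 h3) (fun h => h4 ?_) (autInv_comap_quot h5)
        rw [← map_comap_eq_self_of_surjective hsurj H, h, map_top_of_surjective _ hsurj]
      rw [← h6, map_comap_eq_self_of_surjective hsurj]
    exact Group.isSolvable_of_ker_le_range N.subtype (QuotientGroup.mk' N) (by simp)
  push Not at hex
  have hN : ∀ X ≤ M, X ≠ ⊥ → AutInv φ X → M ≤ normalizer (X : Set G) →
      normalizer (X : Set G) = M := fun X h1 h2 h3 h4 =>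
    hmax _ h4 (fun h => hex X (normalizer_eq_top_iff.1 h) h3 h2 h1) (autInv_normalizer h3)
  by_cases hM1 : M = ⊥
  · have : Nontrivial G := by
      by_contra h
      rw [not_nontrivial_iff_subsingleton] at h
      exact hM (Subsingleton.elim _ _)
    obtain ⟨p, hp, hpd⟩ := Nat.exists_prime_and_dvd (Finite.one_lt_card (α := G)).ne'
    have := Fact.mk hp
    obtain ⟨P, hP⟩ := aut_exists_invariant_sylow (φ := φ) p hcop (Or.inl hA)
    have hPtop : (P : Subgroup G) = ⊤ := by
      by_contra h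
      exact P.ne_bot_of_dvd_card hpd ((hmax P (hM1 ▸ bot_le) h hP).trans hM1)
    exact isSolvable_of_isPGroup ((hPtop ▸ P.isPGroup' : IsPGroup p (⊤ : Subgroup G)).of_equiv
      topEquiv)
  have hsyl : ∀ (p : ℕ) [Fact p.Prime], p ∣ Nat.card M → ∃ P : Sylow p G,
      (P : Subgroup G) ≤ M ∧ AutInv φ P ∧ M ≤ normalizer ((P : Subgroup G) : Set G) := by
    intro p hp hpd
    have := Core.pCore_characteristic p M
    have h1 : ¬ p ∣ (pCoreOf p M).relIndex M := by
      rw [relIndex, LAE.pCoreOf_subgroupOf]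
      exact Core.not_dvd_index_pCore_of_isNilpotent p
    have h2 : pCoreOf p M ≠ ⊥ := fun h => h1 (by rwa [h, relIndex_bot_left])
    have h3 : AutInv φ (pCoreOf p M) := autInv_map_char hMi _
    have h4 := hN _ (LAE.pCoreOf_le M) h2 h3 (LAE.le_normalizer_pCoreOf M)
    have h5 := Tech.isSylowIn_of_isSylowIn_normalizer (p := p) (K := ⊤) le_top
      (by rw [h4, top_inf_eq]; exact ⟨LAE.pCoreOf_le M, LAE.isPGroup_pCoreOf M, h1⟩)
    exact ⟨h5.toSylowTop, LAE.pCoreOf_le M, h3, LAE.le_normalizer_pCoreOf M⟩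
  obtain ⟨p, hp, hpd, hnpc⟩ : ∃ p : ℕ, p.Prime ∧ p ∣ Nat.card M ∧ HasNormalPComplement p G := by
    by_cases h2 : ∀ p : ℕ, p.Prime → p ∣ Nat.card M → p = 2
    · have hM2 : IsPGroup 2 M := IsPGroup.of_card
        (Nat.eq_prime_pow_of_unique_prime_dvd Nat.card_pos.ne' fun hp hd => h2 _ hp hd)
      have hd := Core.dvd_card_of_isPGroup_of_ne_bot hM2 hM1
      obtain ⟨S, hSM, hSi, -⟩ := hsyl 2 hd
      have hS : M = S := S.is_maximal' hM2 hSM
      refine ⟨2, Nat.prime_two, hd, npc_two (φ := φ) (fun α => ?_) S hSi (fun s hs t ht r hr => ?_)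
        fun X h1 h2 h3 h4 => ?_⟩
      · exact Nat.coprime_two_right.1 ((hcop.coprime_dvd_left (orderOf_dvd_natCard α)).coprime_dvd_right
          (hd.trans (card_subgroup_dvd_card M)))
      · exact hcl s (hSM hs) t (hSM ht) r (hSM hr)
          (Fgs.orderOf_eq_pow_of_mem_isPGroup S.isPGroup' hs)
          (Fgs.orderOf_eq_pow_of_mem_isPGroup S.isPGroup' ht)
          (Fgs.orderOf_eq_pow_of_mem_isPGroup S.isPGroup' hr)
      · exact ((hN X (h1.trans hSM) h2 h3 (hS ▸ h4)).trans hS).le
    · push Not at h2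
      obtain ⟨p, hp, hpd, hp2⟩ := h2
      have := Fact.mk hp
      obtain ⟨P, hPM, hPi, hPn⟩ := hsyl p hpd
      refine ⟨p, hp, hpd, ZJ.hasNormalPComplement_of_centerThompsonOf hp2 P
        (ZJ.isStronglyClosed_self _) ?_⟩
      rw [hN _ ((ZJ.centerThompsonOf_le _).trans hPM)
        (ZJ.centerThompsonOf_ne_bot (Or.inr rfl) P.isPGroup'
          (P.ne_bot_of_dvd_card (hpd.trans (card_subgroup_dvd_card M))))
        (autInv_centerThompsonOf hPi p)
        (hPn.trans (ZJ.normalizer_le_normalizer_centerThompsonOf _))]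
      exact Transfer.hasNormalPComplement_of_isNilpotent
  have := Fact.mk hp
  obtain ⟨P, hPM, hPi, -⟩ := hsyl p hpd
  have := Transfer.pResidual_characteristic p G
  set K := pResidual p G with hK
  have hKi : AutInv φ K := autInv_of_characteristic _
  have hKp : ¬ p ∣ Nat.card K := Transfer.hasNormalPComplement_iff_not_dvd.1 hnpc
  have hKP : K ⊔ P = ⊤ := Transfer.pResidual_sup_sylow P
  have hd : (P : Subgroup G) ⊓ K = ⊥ := by
    rw [inf_comm]; exact (Transfer.hasNormalPComplement_iff_inf_eq_bot P).1 hnpc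
  let ψ : (P : Subgroup G) ⋊[subAut φ P hPi] A →* MulAut K :=
    SemidirectProduct.lift (MulAut.conjNormal.comp (P : Subgroup G).subtype) (subAut φ K hKi)
      (fun a => by
        ext u k
        have : φ a (((subAut φ K hKi a).symm k : K) : G) = k :=
          congrArg Subtype.val ((subAut φ K hKi a).apply_symm_apply k)
        simp [this])
  have := finite_sd (φ := subAut φ P hPi)
  have : Group.IsSolvable K := by
    have hKt : K ≠ ⊤ := fun h => hKp (by
      rw [h, card_top]; exact hpd.trans (card_subgroup_dvd_card M))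
    refine ih _ (hn ▸ Core.card_lt_of_ne_top hKt) K _ ψ (M.subgroupOf K) rfl ?_ ?_
      (fun h => hM ?_) ?_ ?_ ?_ (hcl.subgroupOf K)
    · have := isSolvable_of_isPGroup P.isPGroup'
      exact Group.isSolvable_of_ker_le_range SemidirectProduct.inl SemidirectProduct.rightHom
        SemidirectProduct.range_inl_eq_ker_rightHom.ge
    · rw [SemidirectProduct.card]
      obtain ⟨k, hk⟩ := IsPGroup.iff_card.1 P.isPGroup'
      exact Nat.Coprime.mul_left (hk ▸ ((Nat.Prime.coprime_iff_not_dvd hp).2 hKp).pow_left k)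
        (coprime_subgroup hcop K)
    · exact top_le_iff.1 (hKP ▸ sup_le (subgroupOf_eq_top.1 h) hPM)
    · rintro ⟨u, a⟩ k hk
      exact mul_mem (mul_mem (hPM u.2) (hMi a k hk)) (inv_mem (hPM u.2))
    · intro H h1 h2 h3
      have hHi : AutInv φ (H.map K.subtype) := by
        rintro a _ ⟨k, hk, rfl⟩
        exact ⟨_, h3 (SemidirectProduct.inr a) k hk, by simp [ψ]⟩
      have hPH : (P : Subgroup G) ≤ normalizer (H.map K.subtype : Set G) := fun u hu =>
        mem_normalizer_fintype (by
          rintro _ ⟨k, hk, rfl⟩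
          exact ⟨_, h3 (SemidirectProduct.inl ⟨u, hu⟩) k hk, by simp [ψ]⟩)
      have hded := Core.sup_inf_assoc_of_le_normalizer' (map_subtype_le H) hPH
      rw [hd, sup_bot_eq] at hded
      have hM2 : M ≤ H.map K.subtype ⊔ P := by
        have := Core.sup_inf_assoc_of_normal_right (B := K) hPM
        rw [sup_comm, hKP, top_inf_eq] at this
        rw [this, sup_comm]
        refine sup_le_sup_right ?_ _
        rw [inf_comm, ← subgroupOf_map_subtype]
        exact map_mono h1
      have := hmax _ hM2 (fun h => h2 (by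
        rw [h, top_inf_eq] at hded
        exact map_injective K.subtype_injective
          (by rw [← hded, ← MonoidHom.range_eq_map, range_subtype]))) (hHi.sup hPi)
      refine le_antisymm (fun k hk => ?_) h1
      exact this.le (mem_sup_left ⟨k, hk, rfl⟩)
    · have : Group.IsNilpotent (K.subgroupOf M) := inferInstance
      have e1 : M.subgroupOf K ≃* (M ⊓ K : Subgroup G) :=
        (MulEquiv.subgroupCongr (inf_subgroupOf_right M K).symm).trans
          (subgroupOfEquivOfLe inf_le_right)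
      have : Group.IsNilpotent (M ⊓ K : Subgroup G) :=
        Group.nilpotent_of_mulEquiv (subgroupOfEquivOfLe (inf_le_left : M ⊓ K ≤ M))
      exact Group.nilpotent_of_mulEquiv e1.symm
  have : Group.IsSolvable (G ⧸ K) := isSolvable_of_isPGroup Transfer.isPGroup_quotient_pResidual
  exact Group.isSolvable_of_ker_le_range K.subtype (QuotientGroup.mk' K) (by simp)

theorem cls2_of_sylow {G : Type u} [Group G] [Finite G] {M : Subgroup G} [Group.IsNilpotent M]
    (h2 : ∀ S : Sylow 2 M, Group.nilpotencyClass (S : Subgroup M) ≤ 2) : Cls2 M := by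
  let S : Sylow 2 M := default
  have hmem : ∀ s (hs : s ∈ M), (∃ k, orderOf s = 2 ^ k) → (⟨s, hs⟩ : M) ∈ S := fun s hs h =>
    Core.pCore_le_sylow S (Core.le_pCore_of_isNilpotent (Tech.isPGroup_zpowers_iff.2
      (by rwa [← Subgroup.orderOf_coe])) (mem_zpowers _))
  intro s hs t ht r hr h1 h3 h4
  have := Core.nilpotencyClass_le_two_iff.1 (h2 S) (commutator_mem_commutator
    (mem_top (⟨_, hmem s hs h1⟩ : (S : Subgroup M))) (mem_top ⟨_, hmem t ht h3⟩))
  exact congrArg (fun x : (S : Subgroup M) => ((x : M) : G))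
    (mem_center_iff.1 this ⟨_, hmem r hr h4⟩)

/-- The invariant Janko–Deskins theorem for a solvable operator group. -/
theorem inv_deskins {G : Type u} {A : Type v} [Group G] [Finite G] [Group A] [Finite A]
    (φ : A →* MulAut G) (hcop : (Nat.card A).Coprime (Nat.card G))
    (hs : Group.IsSolvable A ∨ Group.IsSolvable G) (M : Subgroup G) (hMtop : M ≠ ⊤)
    (hMinv : ∀ a : A, ∀ m : G, m ∈ M → φ a m ∈ M)
    (hMmax : ∀ H : Subgroup G, M ≤ H → H ≠ ⊤ → (∀ a : A, ∀ h : G, h ∈ H → φ a h ∈ H) → H = M)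
    (hnil : Group.IsNilpotent M)
    (h2 : ∀ S : Sylow 2 M, Group.nilpotencyClass (S : Subgroup M) ≤ 2) : Group.IsSolvable G := by
  rcases hs with hA | hG
  · refine inv_deskins_aux _ G φ.range φ.range.subtype M rfl
      (Group.isSolvable_of_surjective φ.rangeRestrict_surjective)
      (hcop.coprime_dvd_left (card_range_dvd φ)) hMtop ?_ (fun H h1 h3 h4 => hMmax H h1 h3 ?_)
      hnil (cls2_of_sylow h2)
    · rintro ⟨_, a, rfl⟩ m hm
      exact hMinv a m hm
    · exact fun a m hm => h4 ⟨_, a, rfl⟩ m hm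
  · exact hG

/-- The Janko–Deskins theorem. -/
theorem janko_deskins {G : Type u} [Group G] [Finite G] {M : Subgroup G} (hM : IsCoatom M)
    (hnil : Group.IsNilpotent M)
    (h2 : ∀ S : Sylow 2 M, Group.nilpotencyClass (S : Subgroup M) ≤ 2) : Group.IsSolvable G :=
  inv_deskins (A := Unit) 1 (by simp) (Or.inl inferInstance) M hM.1 (fun _ _ h => h)
    (fun H h1 h3 _ => (h1.eq_or_lt.resolve_right fun h => h3 (hM.2 H h)).symm) hnil h2

end CfsgLib.Solv
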